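import Cfsg.Agent.Lib.PNilpotent.ManyClasses
import Cfsg.Agent.Lib.TwoGroupInvol.Basic

/-!
`π`-parts of numbers and bounds on the class number of a `p`-group.
-/

set_option autoImplicit false

namespace CfsgLib.PiClassHall

open CfsgLib.PNilpotent

variable {σ : Finset ℕ}

theorem factorization_piPart (hσ : ∀ r ∈ σ, r.Prime) (n s : ℕ) :
    (piPart σ n).factorization s = if s ∈ σ then n.factorization s else 0 := by
  rw [piPart, Nat.factorization_prod (fun r hr => pow_ne_zero _ (hσ r hr).ne_zero),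
    Finsupp.finsetSum_apply,
    Finset.sum_congr rfl (fun r hr => by rw [(hσ r hr).factorization_pow, Finsupp.single_apply])]
  simp [Finset.sum_ite_eq']

theorem piPart_dvd (hσ : ∀ r ∈ σ, r.Prime) {n : ℕ} (hn : n ≠ 0) : piPart σ n ∣ n := by
  rw [← Nat.factorization_le_iff_dvd (piPart_pos hσ n).ne' hn]
  intro s
  rw [factorization_piPart hσ]
  split <;> simp

theorem piPart_dvd_piPart (hσ : ∀ r ∈ σ, r.Prime) {m n : ℕ} (hn : n ≠ 0) (h : m ∣ n) :
    piPart σ m ∣ piPart σ n := by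
  rw [← Nat.factorization_le_iff_dvd (piPart_pos hσ m).ne' (piPart_pos hσ n).ne']
  intro s
  rw [factorization_piPart hσ, factorization_piPart hσ]
  split
  · exact (Nat.factorization_le_iff_dvd (ne_zero_of_dvd_ne_zero hn h) hn).mpr h s
  · exact le_rfl

theorem mem_of_dvd_piPart (hσ : ∀ r ∈ σ, r.Prime) {n s : ℕ} (hs : s.Prime)
    (h : s ∣ piPart σ n) : s ∈ σ := by
  by_contra hns
  have h1 := (hs.dvd_iff_one_le_factorization (piPart_pos hσ n).ne').mp h
  rw [factorization_piPart hσ, if_neg hns] at h1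
  omega

theorem piPart_insert {q : ℕ} (hq : q ∉ σ) (n : ℕ) :
    piPart (insert q σ) n = q ^ n.factorization q * piPart σ n := by
  rw [piPart, piPart, Finset.prod_insert hq]

theorem not_dvd_div_piPart (hσ : ∀ r ∈ σ, r.Prime) {n : ℕ} (hn : n ≠ 0) {r : ℕ} (hr : r ∈ σ) :
    ¬ r ∣ n / piPart σ n := by
  intro h
  have h0 : n / piPart σ n ≠ 0 :=
    (Nat.div_pos (Nat.le_of_dvd (Nat.pos_of_ne_zero hn) (piPart_dvd hσ hn)) (piPart_pos hσ n)).ne'
  have h1 := ((hσ r hr).dvd_iff_one_le_factorization h0).mp h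
  rw [Nat.factorization_div (piPart_dvd hσ hn), Finsupp.tsub_apply, factorization_piPart hσ,
    if_pos hr] at h1
  omega

theorem eq_piPart (hσ : ∀ r ∈ σ, r.Prime) {m n : ℕ} (hn : n ≠ 0) (hm : m ∣ n)
    (h1 : ∀ r : ℕ, r.Prime → r ∣ m → r ∈ σ) (h2 : ∀ r ∈ σ, ¬ r ∣ n / m) : m = piPart σ n := by
  refine Nat.dvd_antisymm ?_ ?_
  · have hc : m.Coprime (n / piPart σ n) :=
      Nat.coprime_of_dvd fun r hr hrm hrd => not_dvd_div_piPart hσ hn (h1 r hr hrm) hrd
    refine hc.dvd_of_dvd_mul_right ?_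
    rwa [Nat.mul_div_cancel' (piPart_dvd hσ hn)]
  · have hc : (piPart σ n).Coprime (n / m) :=
      Nat.coprime_of_dvd fun r hr hrm hrd => h2 r (mem_of_dvd_piPart hσ hr hrm) hrd
    refine hc.dvd_of_dvd_mul_right ?_
    rw [Nat.mul_div_cancel' hm]
    exact piPart_dvd hσ hn

theorem dvd_piPart (hσ : ∀ r ∈ σ, r.Prime) {r : ℕ} (hr : r ∈ σ) (n : ℕ) :
    r ^ n.factorization r ∣ piPart σ n :=
  Finset.dvd_prod_of_mem _ hr

universe u

variable {r : ℕ} [hr : Fact r.Prime] {R : Type u} [Group R] [Finite R]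

/-- By the degrees: `r² k(R) ≤ (r² - 1) |R : R'| + |R|`. -/
theorem card_conjClasses_le_commutator (hR : IsPGroup r R) :
    r ^ 2 * Nat.card (ConjClasses R) + (commutator R).index ≤
      r ^ 2 * (commutator R).index + Nat.card R := by
  classical
  cases nonempty_fintype R
  rw [← Char.card_irrCharacter, ← TwoGroupInvol.card_linear (G := R),
    Nat.card_congr Char.linearCharEquiv, ← Char.sum_degree_sq (G := R),
    Nat.card_eq_fintype_card, Nat.card_eq_fintype_card,
    Fintype.card_subtype (fun χ : Cfsg.IrrCharacter R => (χ : R → ℂ) 1 = 1)]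
  have hone : ∀ χ : Cfsg.IrrCharacter R, (χ : R → ℂ) 1 = 1 ↔ Char.degree (χ : R → ℂ) = 1 := by
    intro χ
    rw [← Char.IsCharacter.degree_cast (Char.IsIrrCharacter.isCharacter χ.2)]
    exact_mod_cast Iff.rfl
  simp only [hone]
  rw [Finset.card_filter, Finset.mul_sum, ← Finset.card_univ, Finset.card_eq_sum_ones,
    Finset.mul_sum, ← Finset.sum_add_distrib, ← Finset.sum_add_distrib]
  refine Finset.sum_le_sum fun χ _ => ?_
  by_cases h1 : Char.degree (χ : R → ℂ) = 1
  · simp [h1]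
  · rw [if_neg h1]
    obtain ⟨n, hn⟩ := hR.exists_card_eq
    obtain ⟨k, -, hk⟩ := (Nat.dvd_prime_pow hr.out).mp (hn ▸ CharTools.degree_dvd_card χ)
    have hk' : Char.degree (χ : R → ℂ) = r ^ k := hk
    have hk0 : k ≠ 0 := fun h => h1 (by rw [hk', h, pow_zero])
    have h2 : r ≤ Char.degree (χ : R → ℂ) := hk' ▸ Nat.le_self_pow hk0 r
    simpa using Nat.pow_le_pow_left h2 2

/-- A nonabelian `r`-group has at most `(r² + r - 1) / r³` of its order many classes. -/
theorem class_bound_of_nonabelian (hR : IsPGroup r R) (hna : ¬ IsMulCommutative R) :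
    r ^ 3 * Nat.card (ConjClasses R) + Nat.card R ≤ (r ^ 2 + r) * Nat.card R := by
  have h1 := card_conjClasses_le_commutator hR
  have hne : commutator R ≠ ⊥ := fun h => hna
    (Subgroup.center_eq_top_iff.mp ((commutator_eq_bot_iff_center_eq_top R).mp h))
  obtain ⟨n, hn⟩ := (hR.to_subgroup (commutator R)).exists_card_eq
  have hn0 : n ≠ 0 := fun h => hne (Subgroup.eq_bot_of_card_eq _ (by rw [hn, h, pow_zero]))
  have h2 : r ≤ Nat.card (commutator R) := hn ▸ Nat.le_self_pow hn0 r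
  have h3 : Nat.card (commutator R) * (commutator R).index = Nat.card R :=
    Subgroup.card_mul_index _
  have h4 : r * (commutator R).index ≤ Nat.card R := h3 ▸ Nat.mul_le_mul_right _ h2
  obtain ⟨s, rfl⟩ : ∃ s, r = s + 1 := ⟨r - 1, by have := hr.out.pos; omega⟩
  nlinarith [Nat.mul_le_mul_left (s + 1) h1, Nat.mul_le_mul_left (s ^ 2 + 2 * s) h4]

/-- An `r`-group with `|R'| ≥ r²` has at most `|R| / r` classes. -/
theorem class_bound_of_large_commutator (hR : IsPGroup r R)
    (h : r < Nat.card (commutator R)) : r * Nat.card (ConjClasses R) ≤ Nat.card R := by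
  have h1 := card_conjClasses_le_commutator hR
  obtain ⟨n, hn⟩ := (hR.to_subgroup (commutator R)).exists_card_eq
  have hn2 : 2 ≤ n := by
    by_contra hlt
    have h2 := Nat.pow_le_pow_right hr.out.pos (show n ≤ 1 by omega)
    rw [← hn, pow_one] at h2
    omega
  have h2 : r ^ 2 ≤ Nat.card (commutator R) := hn ▸ Nat.pow_le_pow_right hr.out.pos hn2
  have h3 : Nat.card (commutator R) * (commutator R).index = Nat.card R :=
    Subgroup.card_mul_index _
  have h4 : r ^ 2 * (commutator R).index ≤ Nat.card R := h3 ▸ Nat.mul_le_mul_right _ h2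
  obtain ⟨s, rfl⟩ : ∃ s, r = s + 2 := ⟨r - 2, by have := hr.out.two_le; omega⟩
  have h5 : 2 * Nat.card R ≤ (s + 2) * Nat.card R := Nat.mul_le_mul_right _ (by omega)
  nlinarith [Nat.mul_le_mul_left (s + 2) h1, Nat.mul_le_mul_left (s ^ 2 + 4 * s + 3) h4,
    Nat.mul_le_mul_left (s ^ 2 + 4 * s + 4) h5]

end CfsgLib.PiClassHall
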