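import Cfsg.Agent.Lib.PiClassHall.Arith
import Cfsg.Agent.Lib.PNilpotent.AbelianHall
import Cfsg.Agent.Lib.Factor.NilpotentHall

/-!
Few classes of `σ`-elements in a group with abelian Sylow `q`-subgroup and no nilpotent Hall
`σ ∪ {q}`-subgroup, where `q` exceeds all primes of `σ`.
-/

set_option autoImplicit false

namespace CfsgLib.PiClassHall

open CfsgLib.PNilpotent Subgroup commutatorElement
open scoped Pointwise

universe u

/-- A nilpotent Hall `σ`-subgroup exists. -/
def NilpHall (σ : Finset ℕ) (L : Type u) [Group L] : Prop :=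
  ∃ H : Subgroup L, Group.IsNilpotent H ∧ Nat.card H = piPart σ (Nat.card L)

/-- More than `T |L|_σ` classes of `σ`-elements force a nilpotent Hall `σ`-subgroup. -/
def Forces (σ : Finset ℕ) (T : ℚ) : Prop :=
  ∀ (L : Type u) [Group L] [Finite L],
    T * piPart σ (Nat.card L) < (Nat.card (PiClasses σ L) : ℚ) → NilpHall σ L

variable {L : Type u} [Group L] [Finite L] {p q : ℕ} {σ : Finset ℕ}

omit [Finite L] in
theorem commute_of_pow {g x : L} {d : ℕ} (hd : d.Coprime (orderOf g)) (h : Commute (g ^ d) x) :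
    Commute g x := by
  obtain ⟨i, hi⟩ := mem_zpowers_iff.mp (mem_zpowers_pow_iff.mpr hd)
  rw [← hi]
  exact h.zpow_left i

/-- A `q`-element acting nontrivially on a group of order prime to `q`, all of whose primes are
below `q`, leaves at most a fraction `1/p` of the classes. -/
theorem orbit_bound [hq : Fact q.Prime] (hp : 2 ≤ p) (hpq : p < q) {H : Subgroup L} {a : L}
    (ha : a ∈ normalizer (H : Set L)) {j : ℕ} (hao : orderOf a = q ^ j)
    (hprimes : ∀ r : ℕ, r.Prime → r ∣ Nat.card H → p ≤ r ∧ r < q)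
    (hne : a ∉ centralizer (H : Set L)) :
    p * (ConjClasses.mk '' (H : Set L)).ncard ≤ Nat.card H := by
  classical
  set F := H ⊓ centralizer ({a} : Set L) with hF
  have hFmem : ∀ x ∈ F, Commute a x := fun x hx => mem_centralizer_iff.mp hx.2 a rfl
  have hcop : ∀ d : ℕ, 0 < d → d < q → d.Coprime (orderOf a) := fun d hd0 hdq => by
    rw [hao]
    exact Nat.Coprime.pow_right _ (Nat.coprime_comm.mp (hq.out.coprime_iff_not_dvd.mpr
      fun h => by have := Nat.le_of_dvd hd0 h; omega))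
  have hstab : ∀ (i : ℕ), ∀ x ∈ H, a ^ i * x * (a ^ i)⁻¹ ∈ H := fun i x hx =>
    (Subgroup.mem_normalizer_iff.mp (pow_mem ha i) x).mp hx
  -- the fixed points have index at least `p * p`
  have hidx : F.relIndex H ≠ 1 := by
    rw [Ne, relIndex_eq_one]
    intro h
    exact hne (mem_centralizer_iff.mpr fun x hx => ((hFmem x (h hx)).eq).symm)
  have hnot : ¬ F.relIndex H < q := by
    intro hlt
    apply hne
    rw [mem_centralizer_iff]
    intro x hx
    haveI := Fintype.ofFinite (H ⧸ F.subgroupOf H)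
    obtain ⟨i, k, hik, heq⟩ := Fintype.exists_ne_map_eq_of_card_lt
      (fun i : Fin q => (QuotientGroup.mk (⟨a ^ (i : ℕ) * x * (a ^ (i : ℕ))⁻¹, hstab i x hx⟩ : H) :
        H ⧸ F.subgroupOf H))
      (by rw [Fintype.card_fin, ← Nat.card_eq_fintype_card]; exact hlt)
    rw [QuotientGroup.eq, mem_subgroupOf] at heq
    wlog hle : (i : ℕ) < (k : ℕ) generalizing i k with hwlog
    · refine hwlog k i hik.symm ?_ (by
        have := fun h => hik (Fin.ext h)
        omega)
      simpa [mul_assoc] using inv_mem heq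
    simp only [coe_mul, InvMemClass.coe_inv] at heq
    obtain ⟨d, hd⟩ : ∃ d, (k : ℕ) = i + d := ⟨k - i, by omega⟩
    have hcd : d.Coprime (orderOf a) := hcop d (by omega) (by have := k.isLt; omega)
    set f := x⁻¹ * (a ^ d * x * (a ^ d)⁻¹) with hf
    have hfF : f ∈ F := by
      have he : (a ^ (i : ℕ) * x * (a ^ (i : ℕ))⁻¹)⁻¹ * (a ^ (k : ℕ) * x * (a ^ (k : ℕ))⁻¹) =
          a ^ (i : ℕ) * f * (a ^ (i : ℕ))⁻¹ := by
        rw [hd, pow_add, hf]
        group
      rw [he] at heq
      have hc := (hFmem _ heq).pow_left (i : ℕ)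
      have h2 : f = a ^ (i : ℕ) * f * (a ^ (i : ℕ))⁻¹ := by
        calc f = (a ^ (i : ℕ))⁻¹ * (a ^ (i : ℕ) * f * (a ^ (i : ℕ))⁻¹ * a ^ (i : ℕ)) := by group
          _ = (a ^ (i : ℕ))⁻¹ * (a ^ (i : ℕ) * (a ^ (i : ℕ) * f * (a ^ (i : ℕ))⁻¹)) := by
            rw [hc.eq]
          _ = _ := by group
      rw [h2]
      exact heq
    have hgf : Commute (a ^ d) f := (hFmem f hfF).pow_left d
    have hiter : ∀ n : ℕ, (a ^ d) ^ n * x * ((a ^ d) ^ n)⁻¹ = x * f ^ n := by
      intro n
      induction n with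
      | zero => simp
      | succ n ih =>
        calc (a ^ d) ^ (n + 1) * x * ((a ^ d) ^ (n + 1))⁻¹
            = a ^ d * ((a ^ d) ^ n * x * ((a ^ d) ^ n)⁻¹) * (a ^ d)⁻¹ := by rw [pow_succ']; group
          _ = (a ^ d * x * (a ^ d)⁻¹) * (a ^ d * f ^ n * (a ^ d)⁻¹) := by rw [ih]; group
          _ = (x * f) * f ^ n := by
            rw [(hgf.pow_right n).eq, mul_inv_cancel_right, hf]; group
          _ = x * f ^ (n + 1) := by rw [pow_succ', mul_assoc]
    have h5 := hiter (orderOf a)
    rw [← pow_mul, mul_comm d, pow_mul, pow_orderOf_eq_one, one_pow, one_mul, inv_one, mul_one,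
      left_eq_mul] at h5
    have hf1 : f = 1 := by
      rw [← orderOf_eq_one_iff]
      by_contra hne1
      obtain ⟨r, hr, hrd⟩ := Nat.exists_prime_and_dvd hne1
      have hr1 := (hprimes r hr (hrd.trans (orderOf_dvd_natCard H hfF.1))).2
      have hr2 := hrd.trans (orderOf_dvd_of_pow_eq_one h5)
      rw [hao] at hr2
      have := (Nat.prime_dvd_prime_iff_eq hr hq.out).mp (hr.dvd_of_dvd_pow hr2)
      omega
    rw [hf, inv_mul_eq_one] at hf1
    exact ((commute_of_pow hcd (eq_mul_inv_iff_mul_eq.mp hf1).symm).eq).symm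
  have hdvd : F.relIndex H ∣ Nat.card H := relIndex_dvd_card _ _
  have hpp : p * p ≤ F.relIndex H := by
    obtain ⟨r, hr, hrd⟩ := Nat.exists_prime_and_dvd hidx
    obtain ⟨c, hc⟩ := hrd
    have hr1 := hprimes r hr ((Dvd.intro c hc.symm).trans hdvd)
    have hc1 : c ≠ 1 := by rintro rfl; rw [mul_one] at hc; omega
    obtain ⟨s, hs, hsd⟩ := Nat.exists_prime_and_dvd hc1
    have hs1 := hprimes s hs ((hsd.trans (Dvd.intro_left r hc.symm)).trans hdvd)
    have hc0 : c ≠ 0 := by
      rintro rfl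
      rw [mul_zero] at hc
      rw [hc] at hdvd
      exact Nat.card_pos.ne' (Nat.eq_zero_of_zero_dvd hdvd)
    rw [hc]
    exact Nat.mul_le_mul hr1.1 (hs1.1.trans (Nat.le_of_dvd (Nat.pos_of_ne_zero hc0) hsd))
  have hcardF : p * p * Nat.card F ≤ Nat.card H := by
    have h1 : Nat.card F * F.relIndex H = Nat.card H := by
      rw [← relIndex_bot_left F, ← relIndex_bot_left H]
      exact relIndex_mul_relIndex _ _ _ bot_le inf_le_left
    rw [← h1, mul_comm]
    exact Nat.mul_le_mul_left _ hpp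
  -- counting the orbits
  have hmove : q * (ConjClasses.mk '' ((H : Set L) \ F)).ncard ≤ ((H : Set L) \ F).ncard := by
    refine mul_ncard_image_le _ _ q ?_
    rintro x ⟨hxH, hxF⟩
    have hinj : Function.Injective fun i : Fin q => a ^ (i : ℕ) * x * (a ^ (i : ℕ))⁻¹ := by
      intro i k h
      by_contra hik
      wlog hle : (i : ℕ) < (k : ℕ) generalizing i k with hwlog
      · exact hwlog h.symm (Ne.symm hik) (by
          have := fun e => hik (Fin.ext e)
          omega)
      obtain ⟨d, hd⟩ : ∃ d, (k : ℕ) = i + d := ⟨k - i, by omega⟩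
      simp only [hd, pow_add] at h
      have h2 : Commute (a ^ d) x := by
        refine eq_mul_inv_iff_mul_eq.mp ?_ |>.symm
        calc x = (a ^ (i : ℕ))⁻¹ * (a ^ (i : ℕ) * x * (a ^ (i : ℕ))⁻¹) * a ^ (i : ℕ) := by group
          _ = _ := by rw [h]; group
      have h3 := commute_of_pow (hcop d (by omega) (by have := k.isLt; omega)) h2
      exact hxF ⟨hxH, mem_centralizer_iff.mpr fun z hz => by
        rw [Set.mem_singleton_iff.mp hz]; exact h3.eq⟩
    calc q = (Set.range fun i : Fin q => a ^ (i : ℕ) * x * (a ^ (i : ℕ))⁻¹).ncard := by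
          rw [← Nat.card_coe_set_eq, Nat.card_range_of_injective hinj, Nat.card_fin]
      _ ≤ _ := by
        refine Set.ncard_le_ncard ?_ (Set.toFinite _)
        rintro _ ⟨i, rfl⟩
        refine ⟨⟨hstab i x hxH, fun hy => hxF ⟨hxH, ?_⟩⟩, ?_⟩
        · have hc := ((hFmem _ hy).pow_left (i : ℕ)).eq
          refine mem_centralizer_iff.mpr fun z hz => ?_
          rw [Set.mem_singleton_iff.mp hz]
          have h2 : x = a ^ (i : ℕ) * x * (a ^ (i : ℕ))⁻¹ := by
            have := congrArg (fun w => (a ^ (i : ℕ))⁻¹ * w * 1) hc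
            simpa [mul_assoc] using this.symm
          rw [h2]
          exact (hFmem _ hy).eq
        · rw [Set.mem_preimage, Set.mem_singleton_iff, ConjClasses.mk_eq_mk_iff_isConj]
          exact (isConj_iff.mpr ⟨a ^ (i : ℕ), rfl⟩).symm
  have hsub : (F : Set L) ⊆ (H : Set L) := fun x hx => hx.1
  have h2 : (ConjClasses.mk '' (F : Set L)).ncard ≤ Nat.card F :=
    Set.ncard_image_le (Set.toFinite _)
  have h3 : ((H : Set L) \ F).ncard + Nat.card F = Nat.card H :=
    Set.ncard_sdiff_add_ncard_of_subset hsub (Set.toFinite _)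
  have h4 : (ConjClasses.mk '' (H : Set L)).ncard ≤
      (ConjClasses.mk '' (F : Set L)).ncard + (ConjClasses.mk '' ((H : Set L) \ F)).ncard := by
    refine le_trans ?_ (Set.ncard_union_le _ _)
    rw [← Set.image_union, Set.union_sdiff_cancel hsub]
  obtain ⟨s, rfl⟩ : ∃ s, q = p + 1 + s := ⟨q - (p + 1), by omega⟩
  obtain ⟨t, rfl⟩ : ∃ t, p = t + 2 := ⟨p - 2, by omega⟩
  set E := (ConjClasses.mk '' ((H : Set L) \ F)).ncard
  have h5 : (t + 3) * E ≤ ((H : Set L) \ F).ncard :=
    le_trans (Nat.mul_le_mul_right E (by omega)) hmove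
  nlinarith [Nat.mul_le_mul_left (t + 2) h4, Nat.mul_le_mul_left (t + 2) h2,
    Nat.mul_le_mul_left (t + 1) hcardF, Nat.mul_le_mul_left (t + 2) h5]

/-- Two commuting nilpotent subgroups of coprime orders give a nilpotent subgroup of the product
of the orders. -/
theorem exists_nilpotent_mul {A B : Subgroup L} (hA : Group.IsNilpotent A)
    (hB : Group.IsNilpotent B) (hcomm : B ≤ centralizer (A : Set L))
    (hcop : (Nat.card A).Coprime (Nat.card B)) :
    ∃ H : Subgroup L, Group.IsNilpotent H ∧ Nat.card H = Nat.card A * Nat.card B := by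
  have := hA
  have := hB
  have hc : ∀ (x : A) (y : B), Commute (A.subtype x) (B.subtype y) :=
    fun x y => mem_centralizer_iff.mp (hcomm y.2) x x.2
  set φ := A.subtype.noncommCoprod B.subtype hc
  have hinj : Function.Injective φ := by
    rw [injective_iff_map_eq_one]
    rintro ⟨x, y⟩ h
    have h1 : (x : L) * (y : L) = 1 := h
    have hd : Disjoint A B := disjoint_iff.mpr (inf_eq_bot_of_coprime hcop)
    have hx : (x : L) = 1 := disjoint_def.mp hd x.2 (by
      rw [eq_inv_of_mul_eq_one_left h1]; exact inv_mem y.2)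
    rw [hx, one_mul] at h1
    exact Prod.ext (Subtype.ext hx) (Subtype.ext h1)
  refine ⟨φ.range, Group.nilpotent_of_mulEquiv (MonoidHom.ofInjective hinj), ?_⟩
  rw [← Nat.card_congr (MonoidHom.ofInjective hinj).toEquiv, Nat.card_prod]

variable [hq : Fact q.Prime]

theorem coprime_piPart_sylow (hσ : ∀ r ∈ σ, r.Prime) (hqσ : q ∉ σ) (Q : Sylow q L) :
    (piPart σ (Nat.card L)).Coprime (Nat.card Q) := by
  rw [Q.card_eq_multiplicity]
  refine Nat.Coprime.pow_right _ (Nat.coprime_comm.mp (hq.out.coprime_iff_not_dvd.mpr fun h => ?_))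
  exact hqσ (mem_of_dvd_piPart hσ hq.out h)

theorem not_centralize (hσ : ∀ r ∈ σ, r.Prime) (hqσ : q ∉ σ) (Q : Sylow q L) {H : Subgroup L}
    (hH : Group.IsNilpotent H) (hHc : Nat.card H = piPart σ (Nat.card L))
    (hno : ¬ NilpHall (insert q σ) L) : ¬ (Q : Subgroup L) ≤ centralizer (H : Set L) := by
  intro h
  obtain ⟨K, hK, hKc⟩ := exists_nilpotent_mul hH Q.isPGroup'.isNilpotent h
    (hHc ▸ coprime_piPart_sylow hσ hqσ Q)
  refine hno ⟨K, hK, ?_⟩
  rw [hKc, hHc, piPart_insert hqσ, mul_comm, Q.card_eq_multiplicity]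

theorem piPart_dvd_of_index (hσ : ∀ r ∈ σ, r.Prime) {K : Subgroup L}
    (hK : ∀ r ∈ σ, ¬ r ∣ K.index) : piPart σ (Nat.card L) ∣ Nat.card K := by
  have hc : (piPart σ (Nat.card L)).Coprime K.index :=
    Nat.coprime_of_dvd fun r hr h1 h2 => hK r (mem_of_dvd_piPart hσ hr h1) h2
  refine hc.dvd_of_dvd_mul_right ?_
  rw [card_mul_index]
  exact piPart_dvd hσ Nat.card_pos.ne'

/-- The case `N(Q) = C(Q)`. -/
theorem classes_le_of_central (hσ : ∀ r ∈ σ, r.Prime) (hpσ : ∀ r ∈ σ, p ≤ r)
    (hσq : ∀ r ∈ σ, r < q) (hp : 2 ≤ p) (hpq : p < q) {T : ℚ} (hT : 1 ≤ p * T)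
    (IH : Forces.{u} σ T) (Q : Sylow q L)
    (hN : normalizer ((Q : Subgroup L) : Set L) ≤ centralizer ((Q : Subgroup L) : Set L))
    (hno : ¬ NilpHall (insert q σ) L) :
    (Nat.card (PiClasses σ L) : ℚ) ≤ T * piPart σ (Nat.card L) := by
  by_contra hcon
  rw [not_le] at hcon
  obtain ⟨H, hH, hHc⟩ := IH L hcon
  have hqσ : q ∉ σ := fun h => lt_irrefl q (hσq q h)
  obtain ⟨K, hKdef⟩ : ∃ K : Subgroup L, K = (MonoidHom.transferSylow Q hN).ker := ⟨_, rfl⟩
  haveI hKn : K.Normal := hKdef ▸ MonoidHom.normal_ker _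
  have hKQ : K.IsComplement' (Q : Subgroup L) :=
    hKdef ▸ MonoidHom.ker_transferSylow_isComplement' Q hN
  have hKi : K.index = Nat.card Q := hKQ.symm.index_eq_card
  have hσel : ∀ x : L, (∀ r : ℕ, r.Prime → r ∣ orderOf x → r ∈ σ) → x ∈ K := by
    intro x hx
    rw [← QuotientGroup.eq_one_iff, ← orderOf_eq_one_iff]
    by_contra hne
    obtain ⟨r, hr, hrd⟩ := Nat.exists_prime_and_dvd hne
    have h1 := hx r hr (hrd.trans (orderOf_map_dvd (QuotientGroup.mk' K) x))
    have h2 : r ∣ K.index := hrd.trans (by rw [index_eq_card]; exact orderOf_dvd_natCard _)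
    rw [hKi, Q.card_eq_multiplicity] at h2
    exact hqσ ((Nat.prime_dvd_prime_iff_eq hr hq.out).mp (hr.dvd_of_dvd_pow h2) ▸ h1)
  have hHK : H ≤ K := fun x hx => hσel x fun r hr hrd =>
    mem_of_dvd_piPart hσ hr (hHc ▸ hrd.trans (orderOf_dvd_natCard H hx))
  have hHσ : ∀ r : ℕ, r.Prime → r ∣ Nat.card H → r ∈ σ := fun r hr h =>
    mem_of_dvd_piPart hσ hr (hHc ▸ h)
  have hHidx : ∀ r ∈ σ, ¬ r ∣ H.index := by
    intro r hr h
    have h1 : H.index = Nat.card L / piPart σ (Nat.card L) := by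
      rw [← hHc]
      exact (Nat.div_eq_of_eq_mul_right Nat.card_pos (card_mul_index H).symm).symm
    exact not_dvd_div_piPart hσ Nat.card_pos.ne' hr (h1 ▸ h)
  have hHallL : (Nat.card H).Coprime H.index :=
    Nat.coprime_of_dvd fun r hr h1 h2 => hHidx r (hHσ r hr h1) h2
  have hHallK : (Nat.card H).Coprime (H.relIndex K) :=
    hHallL.coprime_dvd_right (relIndex_dvd_index_of_le hHK)
  -- Frattini
  have htop : normalizer (H : Set L) ⊔ K = ⊤ := by
    refine top_le_iff.mp fun l _ => ?_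
    have hc : Nat.card (MulAut.conj l • H : Subgroup L) = Nat.card H :=
      CfsgLib.Solvable.card_conj_smul l H
    obtain ⟨z, hz, hle⟩ := CfsgLib.Factor.nilpotent_hall_dominant_aux _ K H (MulAut.conj l • H)
      hHK (fun x hx => hσel x fun r hr hrd =>
        hHσ r hr (hc ▸ hrd.trans (orderOf_dvd_natCard _ hx))) rfl hH hHallK
      (fun r _ h => hc ▸ h)
    have heq : MulAut.conj l • H = MulAut.conj z • H :=
      eq_of_le_of_card_ge hle (by rw [hc, CfsgLib.Solvable.card_conj_smul z H])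
    have hn : z⁻¹ * l ∈ normalizer (H : Set L) := by
      rw [mem_normalizer_iff]
      intro x
      have hcj : MulAut.conj (z⁻¹ * l) • H = H := by
        rw [map_mul, mul_smul, heq, map_inv, inv_smul_smul]
      conv_rhs => rw [← hcj]
      rw [CfsgLib.Factor.mem_conj]
      simp [mul_assoc]
    have := mul_mem_sup (hn) (hz)
    have h2 : l = z * (z⁻¹ * l) := by group
    rw [h2, sup_comm]
    exact mul_mem_sup hz hn
  have hNq : Nat.card Q ∣ Nat.card (normalizer (H : Set L)) := by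
    rw [← hKi, ← relIndex_top_right K, ← htop, relIndex_sup_right]
    exact relIndex_dvd_card _ _
  obtain ⟨Q₀⟩ := (inferInstance : Nonempty (Sylow q (normalizer (H : Set L))))
  obtain ⟨Q₁, hQ₁⟩ := ((Q₀.isPGroup').map (normalizer (H : Set L)).subtype).exists_le_sylow
  have hQ₁eq : (Q₁ : Subgroup L) = (Q₀ : Subgroup _).map (normalizer (H : Set L)).subtype := by
    refine (eq_of_le_of_card_ge hQ₁ ?_).symm
    rw [card_map_of_injective (subtype_injective _), Q₁.card_eq_multiplicity,
      ← Q.card_eq_multiplicity]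
    refine Nat.le_of_dvd Nat.card_pos ?_
    obtain ⟨n, hn⟩ := Q.isPGroup'.exists_card_eq
    rw [hn, Q₀.card_eq_multiplicity]
    refine pow_dvd_pow q ?_
    exact (hq.out.pow_dvd_iff_le_factorization Nat.card_pos.ne').mp (hn ▸ hNq)
  have hQ₁N : (Q₁ : Subgroup L) ≤ normalizer (H : Set L) := hQ₁eq ▸ map_subtype_le _
  obtain ⟨a, ha, hac⟩ := SetLike.not_le_iff_exists.mp (not_centralize hσ hqσ Q₁ hH hHc hno)
  obtain ⟨j, hj⟩ := Q₁.isPGroup'.exists_orderOf_eq_pow ⟨a, ha⟩
  rw [orderOf_mk] at hj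
  have h1 := orbit_bound hp hpq (hQ₁N ha) hj
    (fun r hr h => ⟨hpσ r (hHσ r hr h), hσq r (hHσ r hr h)⟩) hac
  have h2 : Nat.card (PiClasses σ L) ≤ (ConjClasses.mk '' (H : Set L)).ncard := by
    rw [← Nat.card_coe_set_eq]
    refine Nat.card_le_card_of_injective
      (fun c : PiClasses σ L => (⟨c.1, ?_⟩ : (ConjClasses.mk '' (H : Set L) : Set _)))
      (fun c d h => Subtype.ext (congrArg Subtype.val h :))
    obtain ⟨c, hc⟩ := c
    obtain ⟨x, rfl⟩ := ConjClasses.mk_surjective c
    have hx := hc x ConjClasses.mem_carrier_mk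
    obtain ⟨z, hz⟩ := CfsgLib.Factor.exists_conj_le_of_nilpotent_hall (K := zpowers x) hH hHallL
      (fun r hr h => by
        rw [Nat.card_zpowers] at h
        have hrσ := hx r hr h
        rw [hHc]
        refine (dvd_pow_self r ?_).trans (dvd_piPart hσ hrσ _)
        exact (hr.factorization_pos_of_dvd Nat.card_pos.ne' (h.trans (orderOf_dvd_natCard x))).ne')
    have hx2 := CfsgLib.Factor.mem_conj.mp (hz (mem_zpowers x))
    exact ⟨_, hx2, ConjClasses.mk_eq_mk_iff_isConj.mpr (isConj_iff.mpr ⟨z, by group⟩)⟩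
  have h3 : (p : ℚ) * Nat.card (PiClasses σ L) ≤ piPart σ (Nat.card L) := by
    rw [← hHc]
    exact_mod_cast (Nat.mul_le_mul_left p h2).trans h1
  have hp0 : (0 : ℚ) < p := by exact_mod_cast (show 0 < p by omega)
  nlinarith

/-- A Sylow subgroup with few classes: nonabelian, or with a nontrivial action. -/
theorem pClasses_bound {r : ℕ} [hr : Fact r.Prime] (hr3 : 3 ≤ r) (R : Sylow r L)
    (h : IsMulCommutative R →
      ¬ normalizer ((R : Subgroup L) : Set L) ≤ centralizer ((R : Subgroup L) : Set L)) :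
    2 * r * Nat.card (PClasses r L) ≤ (r + 1) * Nat.card R := by
  classical
  by_cases hab : IsMulCommutative R
  swap
  · have h1 := class_bound_of_nonabelian R.isPGroup' hab
    have h2 := card_pClasses_le_card_conjClasses R
    obtain ⟨s, rfl⟩ : ∃ s, r = s + 3 := ⟨r - 3, by omega⟩
    refine Nat.le_of_mul_le_mul_left ?_ (show 0 < (s + 3) ^ 2 by positivity)
    nlinarith [Nat.mul_le_mul_left (2 * (s + 3) ^ 3) h2, Nat.mul_le_mul_left 2 h1,
      Nat.zero_le (s * Nat.card (R : Subgroup L)), Nat.zero_le (s ^ 2 * Nat.card (R : Subgroup L)),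
      Nat.zero_le (s ^ 3 * Nat.card (R : Subgroup L))]
  obtain ⟨g, hgN, hgC⟩ := SetLike.not_le_iff_exists.mp (h hab)
  set F := (R : Subgroup L) ⊓ centralizer ({g} : Set L) with hF
  have hFR : F < (R : Subgroup L) := lt_of_le_of_ne inf_le_left fun e => hgC
    (mem_centralizer_iff.mpr fun x hx => by
      have hx' : x ∈ F := e.symm ▸ hx
      exact (mem_centralizer_iff.mp hx'.2 g rfl).symm)
  have h1 := (mul_card_le_of_lt R.isPGroup' hFR).1
  have hmove : 2 * (ConjClasses.mk '' (((R : Subgroup L) : Set L) \ F)).ncard ≤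
      (((R : Subgroup L) : Set L) \ F).ncard := by
    refine mul_ncard_image_le _ _ 2 ?_
    rintro x ⟨hxR, hxF⟩
    have hne : g * x * g⁻¹ ≠ x := fun e => hxF ⟨hxR, mem_centralizer_iff.mpr fun z hz => by
      rw [Set.mem_singleton_iff.mp hz]; exact mul_inv_eq_iff_eq_mul.mp e⟩
    refine Nat.succ_le_of_lt ((Set.one_lt_ncard).mpr ⟨g * x * g⁻¹, ⟨⟨?_, ?_⟩, ?_⟩, x, ⟨⟨hxR, hxF⟩, rfl⟩, hne⟩)
    · exact (Subgroup.mem_normalizer_iff.mp hgN x).mp hxR
    · intro hy
      have h2 := mem_centralizer_iff.mp hy.2 g rfl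
      exact hne (mul_left_cancel (h2.trans (by group)))
    · rw [Set.mem_preimage, Set.mem_singleton_iff, ConjClasses.mk_eq_mk_iff_isConj]
      exact (isConj_iff.mpr ⟨g, rfl⟩).symm
  have h2 : Nat.card (PClasses r L) ≤
      (ConjClasses.mk '' ((R : Subgroup L) : Set L)).ncard := by
    rw [← Nat.card_coe_set_eq]
    refine Nat.card_le_card_of_injective
      (fun c : PClasses r L => (⟨c.1, ?_⟩ : (ConjClasses.mk '' ((R : Subgroup L) : Set L) : Set _)))
      (fun c d h => Subtype.ext (congrArg Subtype.val h :))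
    obtain ⟨x, hx⟩ := toPClass_surjective R c
    exact ⟨x, x.2, congrArg Subtype.val hx⟩
  have hsub : (F : Set L) ⊆ ((R : Subgroup L) : Set L) := fun x hx => hx.1
  have h3 : (((R : Subgroup L) : Set L) \ F).ncard + Nat.card F = Nat.card R :=
    Set.ncard_sdiff_add_ncard_of_subset hsub (Set.toFinite _)
  have h4 : (ConjClasses.mk '' ((R : Subgroup L) : Set L)).ncard ≤ Nat.card F +
      (ConjClasses.mk '' (((R : Subgroup L) : Set L) \ F)).ncard := by
    refine le_trans ?_ (Nat.add_le_add_right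
      (Set.ncard_image_le (f := ConjClasses.mk) (s := (F : Set L)) (Set.toFinite _)) _)
    refine le_trans ?_ (Set.ncard_union_le _ _)
    rw [← Set.image_union, Set.union_sdiff_cancel hsub]
  nlinarith [Nat.mul_le_mul_left r hmove, Nat.mul_le_mul_left (2 * r) h2,
    Nat.mul_le_mul_left (2 * r) h4]

/-- The case `N(Q) ≠ C(Q)`. -/
theorem classes_le_of_action (hσ : ∀ r ∈ σ, r.Prime) (hpσ : ∀ r ∈ σ, p ≤ r)
    (hqσ : q ∉ σ) (hp : 2 ≤ p) {T : ℚ} (hT : 1 ≤ p * T) (Q : Sylow q L)
    (hQ : IsMulCommutative Q)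
    (hlt : Nat.card (centralizer ((Q : Subgroup L) : Set L)) <
      Nat.card (normalizer ((Q : Subgroup L) : Set L)))
    (hno : ¬ NilpHall (insert q σ) L) :
    (Nat.card (PiClasses σ L) : ℚ) * Nat.card (normalizer ((Q : Subgroup L) : Set L)) ≤
      (piPart σ (Nat.card L) : ℚ) * (T * Nat.card (normalizer ((Q : Subgroup L) : Set L)) +
        Nat.card (normalizer ((Q : Subgroup L) : Set L)) -
        Nat.card (centralizer ((Q : Subgroup L) : Set L))) := by
  have hCN : centralizer ((Q : Subgroup L) : Set L) ≤ normalizer ((Q : Subgroup L) : Set L) :=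
    centralizer_le_normalizer _
  set C := centralizer ((Q : Subgroup L) : Set L) with hCdef
  set N := normalizer ((Q : Subgroup L) : Set L) with hNdef
  set M := piPart σ (Nat.card L) with hMdef
  set k := Nat.card (PiClasses σ L) with hkdef
  obtain ⟨i, hi⟩ := card_dvd_of_le hCN
  have hi2 : 2 ≤ i := by
    by_contra hlt2
    have : Nat.card N ≤ Nat.card C := by
      rw [hi]; exact (Nat.mul_le_mul_left _ (show i ≤ 1 by omega)).trans (mul_one _).le
    omega
  have hkM : (k : ℚ) ≤ M := by exact_mod_cast card_piClasses_le hσ L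
  have hp0 : (0 : ℚ) < p := by exact_mod_cast (show 0 < p by omega)
  have hT0 : 0 < T := by nlinarith
  have hiq : (Nat.card N : ℚ) = Nat.card C * i := by exact_mod_cast hi
  have hCpos : (0 : ℚ) < Nat.card C := by exact_mod_cast Nat.card_pos
  have hMpos : (0 : ℚ) ≤ M := Nat.cast_nonneg _
  have hi2q : (2 : ℚ) ≤ i := by exact_mod_cast hi2
  by_cases hbig : p ≤ i
  · have hTi : 1 ≤ T * i := by
      have : (p : ℚ) ≤ i := by exact_mod_cast hbig
      nlinarith
    rw [hiq]
    nlinarith [mul_le_mul_of_nonneg_right hkM (mul_nonneg hCpos.le (by linarith : (0:ℚ) ≤ i)),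
      mul_le_mul_of_nonneg_left hTi (mul_nonneg hMpos hCpos.le)]
  have hp3 : 3 ≤ p := by omega
  suffices hk : (k : ℚ) ≤ (1 / 2 + T) * M by
    rw [hiq]
    nlinarith [mul_le_mul_of_nonneg_right hk (mul_nonneg hCpos.le (by linarith : (0:ℚ) ≤ i)),
      mul_le_mul_of_nonneg_left hi2q (mul_nonneg hMpos hCpos.le)]
  by_cases hexc : ∃ r ∈ σ, ∀ [Fact r.Prime], ∃ R : Sylow r L, IsMulCommutative R →
      ¬ normalizer ((R : Subgroup L) : Set L) ≤ centralizer ((R : Subgroup L) : Set L)
  · obtain ⟨r, hrσ, hR⟩ := hexc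
    haveI := Fact.mk (hσ r hrσ)
    obtain ⟨R, hR⟩ := hR
    have hr3 : 3 ≤ r := hp3.trans (hpσ r hrσ)
    have h1 := pClasses_bound hr3 R hR
    have h2 := card_piClasses_le_mul (G := L) hσ hrσ
    rw [← R.card_eq_multiplicity] at h2
    have h3 : 2 * r * k ≤ (r + 1) * M := by
      refine Nat.le_of_mul_le_mul_right ?_ (Nat.card_pos : 0 < Nat.card R)
      nlinarith [Nat.mul_le_mul_left (2 * r) h2, Nat.mul_le_mul_right M h1]
    have h4 : (2 : ℚ) * r * k ≤ (r + 1) * M := by exact_mod_cast h3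
    have hr0 : (p : ℚ) ≤ r := by exact_mod_cast hpσ r hrσ
    have hTr : 1 ≤ T * r := by nlinarith
    by_contra hcon
    rw [not_le] at hcon
    nlinarith [mul_le_mul_of_nonneg_right hTr hMpos,
      mul_lt_mul_of_pos_left hcon (show (0:ℚ) < 2 * r by linarith)]
  exfalso
  simp only [not_exists, not_and, not_forall] at hexc
  have hcompl : ∀ r ∈ σ, ∃ K : Subgroup L, K.Normal ∧ (¬ r ∣ Nat.card K ∧ ∃ k, K.index = r ^ k) ∧
      commutator L ≤ K := by
    intro r hr
    haveI := Fact.mk (hσ r hr)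
    obtain ⟨R⟩ := (inferInstance : Nonempty (Sylow r L))
    obtain ⟨hF, hR⟩ := hexc r hr
    obtain ⟨hab, hle⟩ := hR R
    rw [not_not] at hle
    have hc := MonoidHom.ker_transferSylow_isComplement' R hle
    exact ⟨_, MonoidHom.normal_ker _, complement_props R hc,
      commutator_le_of_complement (MonoidHom.normal_ker _) hc hab⟩
  obtain ⟨K, H₀, hKn, hK1, hK2, -, -, -, -⟩ := exists_complement_abelian_hall hσ hcompl
  haveI := hKn
  have hKc : commutator L ≤ K := by
    intro x hx
    rw [← QuotientGroup.eq_one_iff, ← orderOf_eq_one_iff]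
    by_contra hne
    obtain ⟨r, hr, hrd⟩ := Nat.exists_prime_and_dvd hne
    have hrσ := hK2 r hr (hrd.trans (by rw [index_eq_card]; exact orderOf_dvd_natCard _))
    obtain ⟨J, -, ⟨hJ1, -⟩, hJc⟩ := hcompl r hrσ
    exact hJ1 ((hrd.trans (orderOf_map_dvd (QuotientGroup.mk' K) x)).trans
      (orderOf_dvd_natCard J (hJc hx)))
  have hKM : K.index ∣ M ∧ M ∣ K.index := by
    have hKi : K.index = M := by
      refine eq_piPart hσ Nat.card_pos.ne' K.index_dvd_card hK2 fun r hr h => ?_
      rw [← card_mul_index K, Nat.mul_div_cancel _ (Nat.pos_of_ne_zero K.index_ne_zero_of_finite)] at h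
      exact hK1 r (hσ r hr) h hr
    exact ⟨hKi.dvd, hKi.symm.dvd⟩
  have hQK : (Q : Subgroup L) ≤ K := by
    intro x hx
    rw [← QuotientGroup.eq_one_iff, ← orderOf_eq_one_iff]
    by_contra hne
    obtain ⟨r, hr, hrd⟩ := Nat.exists_prime_and_dvd hne
    have hrσ := hK2 r hr (hrd.trans (by rw [index_eq_card]; exact orderOf_dvd_natCard _))
    have h2 : r ∣ Nat.card Q := (hrd.trans (orderOf_map_dvd (QuotientGroup.mk' K) x)).trans
      (orderOf_dvd_natCard _ hx)
    rw [Q.card_eq_multiplicity] at h2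
    exact hqσ ((Nat.prime_dvd_prime_iff_eq hr hq.out).mp (hr.dvd_of_dvd_pow h2) ▸ hrσ)
  have htop : N ⊔ K = ⊤ := Sylow.normalizer_sup_eq_top' Q hQK
  have hMN : M ∣ Nat.card N := by
    refine hKM.2.trans ?_
    rw [← relIndex_top_right K, ← htop, relIndex_sup_right]
    exact relIndex_dvd_card _ _
  have hMC : M ∣ Nat.card C := by
    have hc : M.Coprime i := Nat.coprime_of_dvd fun r hr h1 h2 => hbig
      ((hpσ r (mem_of_dvd_piPart hσ hr h1)).trans (Nat.le_of_dvd (by omega) h2))
    exact hc.dvd_of_dvd_mul_right (hi ▸ hMN)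
  -- a complement inside the centralizer
  have hr1 : (Nat.card (K.subgroupOf C)).Coprime (K.subgroupOf C).index := by
    refine Nat.coprime_of_dvd fun r hr h1 h2 => hK1 r hr ?_ (hK2 r hr (h2.trans ?_))
    · rw [← card_map_of_injective C.subtype_injective, subgroupOf_map_subtype] at h1
      exact h1.trans (card_dvd_of_le inf_le_left)
    · exact relIndex_dvd_index_of_normal K C
  obtain ⟨A, hA⟩ := exists_right_complement'_of_coprime hr1
  have hAc : Nat.card A = M := by
    rw [← hA.symm.index_eq_card]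
    refine Nat.dvd_antisymm ((relIndex_dvd_index_of_normal K C).trans hKM.1) ?_
    have hc : M.Coprime (Nat.card (K.subgroupOf C)) := by
      refine Nat.coprime_of_dvd fun r hr h1 h2 => hK1 r hr ?_ (mem_of_dvd_piPart hσ hr h1)
      rw [← card_map_of_injective C.subtype_injective, subgroupOf_map_subtype] at h2
      exact h2.trans (card_dvd_of_le inf_le_left)
    refine hc.dvd_of_dvd_mul_left ?_
    rw [card_mul_index]
    exact hMC
  have hAcomm : IsMulCommutative A := by
    refine IsMulCommutative.of_comm fun a b => ?_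
    have h1 : ⁅(a : C), (b : C)⁆ ∈ K.subgroupOf C := by
      rw [mem_subgroupOf]
      exact hKc (commutator_mem_commutator (mem_top _) (mem_top _))
    have h2 : ⁅(a : C), (b : C)⁆ ∈ A := by
      rw [commutatorElement_def]
      exact mul_mem (mul_mem (mul_mem a.2 b.2) (inv_mem a.2)) (inv_mem b.2)
    exact Subtype.ext (commutatorElement_eq_one_iff_mul_comm.mp (disjoint_def.mp hA.disjoint h1 h2))
  haveI := hAcomm
  set A' := A.map C.subtype with hA'
  have hA'c : Nat.card A' = M := by rw [hA', card_map_of_injective C.subtype_injective, hAc]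
  haveI : IsMulCommutative A' := inferInstance
  refine not_centralize hσ hqσ Q (H := A') ?_ hA'c hno ?_
  · letI : CommGroup A' := { (inferInstance : Group A') with mul_comm := fun a b => mul_comm' a b }
    exact CommGroup.isNilpotent (G := A')
  · rw [le_centralizer_iff]
    exact map_subtype_le A

end CfsgLib.PiClassHall
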