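import Cfsg.Agent.Lib.PiClassHall.Local
import Cfsg.Agent.Lib.ConjAbelian.Lift

/-!
Many classes of `π`-elements force a nilpotent Hall `π`-subgroup.
-/

set_option autoImplicit false

namespace CfsgLib.PiClassHall

open CfsgLib.PNilpotent Subgroup commutatorElement
open scoped Pointwise

universe u

variable {G : Type u} [Group G] [Finite G] {p q : ℕ} {σ : Finset ℕ}

/-- The classes of `({r} ∪ σ)`-elements, by the class of the `r`-part. -/
theorem card_piClasses_insert_le_sum {r : ℕ} [hr : Fact r.Prime] [Fintype (PClasses r G)]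
    (σ : Finset ℕ) (rep : PClasses r G → G) (hrep : ∀ e, ConjClasses.mk (rep e) = e.1) :
    Nat.card (PiClasses (insert r σ) G) ≤
      ∑ e, Nat.card (PiClasses σ (centralizer ({rep e} : Set G))) := by
  have key : ∀ c : PiClasses (insert r σ) G, ∃ (d : PClasses r G) (z : G),
      z ∈ centralizer ({rep d} : Set G) ∧ (∀ s : ℕ, s.Prime → s ∣ orderOf z → s ∈ σ) ∧
      ConjClasses.mk (rep d * z) = c.1 := by
    rintro ⟨c, hc⟩
    obtain ⟨y, rfl⟩ := ConjClasses.mk_surjective c
    obtain ⟨a, b, hab, hk, hb⟩ := exists_pPart_decomp (p := r) y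
    let d : PClasses r G := ⟨ConjClasses.mk (y ^ a),
      (forall_carrier_iff (q := fun n => ∃ k, n = r ^ k)).mpr hk⟩
    obtain ⟨g, hg⟩ := isConj_iff.mp (ConjClasses.mk_eq_mk_iff_isConj.mp (hrep d).symm :
      IsConj (y ^ a) (rep d))
    refine ⟨d, g * y ^ b * g⁻¹, ?_, ?_, ?_⟩
    · refine mem_centralizer_iff.mpr fun w hw => ?_
      rw [Set.mem_singleton_iff.mp hw, ← hg]
      calc g * y ^ a * g⁻¹ * (g * y ^ b * g⁻¹) = g * (y ^ a * y ^ b) * g⁻¹ := by group
        _ = g * (y ^ b * y ^ a) * g⁻¹ := by rw [← pow_add, ← pow_add, add_comm]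
        _ = _ := by group
    · intro s hs hsd
      rw [← MulAut.conj_apply, MulEquiv.orderOf_eq] at hsd
      have h1 := hc y ConjClasses.mem_carrier_mk s hs (hsd.trans (orderOf_pow_dvd b))
      rcases Finset.mem_insert.mp h1 with rfl | h2
      · exact absurd hsd ((Nat.Prime.coprime_iff_not_dvd hs).mp hb.symm)
      · exact h2
    · rw [← hg, ConjClasses.mk_eq_mk_iff_isConj]
      refine (isConj_iff.mpr ⟨g, ?_⟩).symm
      conv_lhs => rw [← hab]
      group
  choose d z hz hσ hmk using key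
  let f : PiClasses (insert r σ) G → Σ e : PClasses r G, PiClasses σ (centralizer ({rep e} : Set G)) :=
    fun c => ⟨d c, ⟨ConjClasses.mk ⟨z c, hz c⟩,
      (forall_carrier_iff (q := fun n => ∀ s : ℕ, s.Prime → s ∣ n → s ∈ σ)).mpr (by
        rw [← orderOf_coe]; exact hσ c)⟩⟩
  have hf : Function.Injective f := by
    intro c c' h
    have h2 : ∀ (e e' : PClasses r G) (w : G) (hw : w ∈ centralizer ({rep e} : Set G)) (w' : G)
        (hw' : w' ∈ centralizer ({rep e'} : Set G)) (P1 P2),
        (⟨e, ⟨ConjClasses.mk ⟨w, hw⟩, P1⟩⟩ : Σ e : PClasses r G,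
            PiClasses σ (centralizer ({rep e} : Set G))) =
          ⟨e', ⟨ConjClasses.mk ⟨w', hw'⟩, P2⟩⟩ →
        ConjClasses.mk (rep e * w) = ConjClasses.mk (rep e' * w') := by
      intro e e' w hw w' hw' P1 P2 he
      obtain ⟨rfl, he2⟩ := Sigma.mk.inj_iff.mp he
      have he3 := congrArg Subtype.val (eq_of_heq he2)
      rw [ConjClasses.mk_eq_mk_iff_isConj] at he3 ⊢
      obtain ⟨g, hg⟩ := isConj_iff.mp he3
      have hg' : (g : G) * w * (g : G)⁻¹ = w' := congrArg Subtype.val hg
      refine isConj_iff.mpr ⟨g, ?_⟩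
      have hgc := mem_centralizer_iff.mp g.2 (rep e) rfl
      calc (g : G) * (rep e * w) * (g : G)⁻¹
          = ((g : G) * rep e) * (w * (g : G)⁻¹) := by group
        _ = (rep e * g) * (w * (g : G)⁻¹) := by rw [hgc]
        _ = rep e * ((g : G) * w * (g : G)⁻¹) := by group
        _ = _ := by rw [hg']
    have h3 := h2 (d c) (d c') (z c) (hz c) (z c') (hz c') _ _ h
    rw [hmk, hmk] at h3
    exact Subtype.ext h3
  refine (Nat.card_le_card_of_injective f hf).trans ?_
  rw [Nat.card_sigma]

/-- The bound at one element of an abelian Sylow `q`-subgroup. -/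
theorem classes_at_point [hq : Fact q.Prime] (hσ : ∀ r ∈ σ, r.Prime) (hpσ : ∀ r ∈ σ, p ≤ r)
    (hσq : ∀ r ∈ σ, r < q) (hp : 2 ≤ p) (hpq : p < q) {T : ℚ} (hT : 1 ≤ p * T)
    (IH : Forces.{u} σ T) (Q : Sylow q G) (hQ : IsMulCommutative Q)
    (hno : ¬ NilpHall (insert q σ) G) {x : G} (hx : x ∈ (Q : Subgroup G)) :
    (Nat.card (PiClasses σ (centralizer ({x} : Set G))) : ℚ) *
        Nat.card (normalizer ((Q : Subgroup G) : Set G) ⊓ centralizer ({x} : Set G) : Subgroup G) ≤
      (piPart σ (Nat.card G) : ℚ) *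
        (T * Nat.card (normalizer ((Q : Subgroup G) : Set G) ⊓ centralizer ({x} : Set G) :
            Subgroup G) +
          Nat.card (normalizer ((Q : Subgroup G) : Set G) ⊓ centralizer ({x} : Set G) :
            Subgroup G) -
          Nat.card (centralizer ((Q : Subgroup G) : Set G))) := by
  have hqσ : q ∉ σ := fun h => lt_irrefl q (hσq q h)
  set Lx := centralizer ({x} : Set G) with hLx
  have hQL : (Q : Subgroup G) ≤ Lx := fun y hy => mem_centralizer_iff.mpr fun w hw => by
    rw [Set.mem_singleton_iff.mp hw]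
    exact congrArg Subtype.val (hQ.is_comm.comm ⟨x, hx⟩ ⟨y, hy⟩)
  have hCL : centralizer ((Q : Subgroup G) : Set G) ≤ Lx :=
    centralizer_le (Set.singleton_subset_iff.mpr hx)
  set Q' := Q.subtype hQL with hQ'
  have hQ'c : (Q' : Subgroup Lx) = (Q : Subgroup G).subgroupOf Lx := rfl
  have hQ'comm : IsMulCommutative Q' := by
    refine IsMulCommutative.of_comm fun a b => ?_
    exact Subtype.ext (Subtype.ext (congrArg Subtype.val
      (hQ.is_comm.comm ⟨(a : Lx), a.2⟩ ⟨(b : Lx), b.2⟩) :))
  have hN : Nat.card (normalizer ((Q' : Subgroup Lx) : Set Lx)) =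
      Nat.card (normalizer ((Q : Subgroup G) : Set G) ⊓ Lx : Subgroup G) := by
    rw [hQ'c, ← subgroupOf_normalizer_eq hQL, ← subgroupOf_map_subtype,
      card_map_of_injective Lx.subtype_injective]
  have hC : Nat.card (centralizer ((Q' : Subgroup Lx) : Set Lx)) =
      Nat.card (centralizer ((Q : Subgroup G) : Set G)) := by
    have he : centralizer ((Q' : Subgroup Lx) : Set Lx) =
        (centralizer ((Q : Subgroup G) : Set G)).subgroupOf Lx := by
      ext y
      rw [mem_subgroupOf, mem_centralizer_iff, mem_centralizer_iff]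
      exact ⟨fun h w hw => congrArg Subtype.val (h ⟨w, hQL hw⟩ hw),
        fun h w hw => Subtype.ext (h w hw)⟩
    rw [he, Nat.card_congr (subgroupOfEquivOfLe hCL).toEquiv]
  rw [← hN, ← hC]
  set n := Nat.card (normalizer ((Q' : Subgroup Lx) : Set Lx))
  set c := Nat.card (centralizer ((Q' : Subgroup Lx) : Set Lx))
  have hcn : c ≤ n := card_le_of_le (centralizer_le_normalizer _)
  set M := piPart σ (Nat.card G)
  set ML := piPart σ (Nat.card Lx) with hML
  set k := Nat.card (PiClasses σ Lx)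
  have hcnq : (c : ℚ) ≤ n := by exact_mod_cast hcn
  have hn0 : (0 : ℚ) ≤ n := Nat.cast_nonneg _
  have hp0 : (0 : ℚ) < p := by exact_mod_cast (show 0 < p by omega)
  have hT0 : 0 < T := by nlinarith
  by_cases hfull : ML = M
  · have hnoL : ¬ NilpHall (insert q σ) Lx := by
      rintro ⟨H, hH, hHc⟩
      have := hH
      refine hno ⟨H.map Lx.subtype,
        Group.nilpotent_of_mulEquiv (H.equivMapOfInjective _ Lx.subtype_injective), ?_⟩
      rw [card_map_of_injective Lx.subtype_injective, hHc, piPart_insert hqσ, piPart_insert hqσ,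
        ← hML, hfull, ← Q'.card_eq_multiplicity, ← Q.card_eq_multiplicity, hQ'c,
        Nat.card_congr (subgroupOfEquivOfLe hQL).toEquiv]
    rcases eq_or_lt_of_le hcn with he | hlt
    · have hle : normalizer ((Q' : Subgroup Lx) : Set Lx) ≤
          centralizer ((Q' : Subgroup Lx) : Set Lx) :=
        (eq_of_le_of_card_ge (centralizer_le_normalizer _) he.ge).ge
      have h1 := classes_le_of_central hσ hpσ hσq hp hpq hT IH Q' hle hnoL
      rw [← hML, hfull] at h1
      rw [show (c : ℚ) = n by exact_mod_cast he]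
      nlinarith [mul_le_mul_of_nonneg_right h1 hn0]
    · have h1 := classes_le_of_action hσ hpσ hqσ hp hT Q' hQ'comm hlt hnoL
      rwa [← hML, hfull] at h1
  · have hdvd : ML ∣ M := piPart_dvd_piPart hσ Nat.card_pos.ne' (card_subgroup_dvd_card _)
    obtain ⟨d, hd⟩ := hdvd
    have hd1 : d ≠ 1 := fun h => hfull (by rw [hd, h, mul_one])
    obtain ⟨s, hs, hsd⟩ := Nat.exists_prime_and_dvd hd1
    have hps : p ≤ d := by
      refine (hpσ s (mem_of_dvd_piPart hσ hs (hsd.trans (Dvd.intro_left ML hd.symm)))).trans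
        (Nat.le_of_dvd (Nat.pos_of_ne_zero ?_) hsd)
      rintro rfl
      rw [mul_zero] at hd
      exact (piPart_pos hσ _).ne' hd
    have hk : p * k ≤ M := by
      rw [hd, mul_comm ML]
      exact Nat.mul_le_mul hps (card_piClasses_le hσ Lx)
    have hkq : (p : ℚ) * k ≤ M := by exact_mod_cast hk
    have hM0 : (0 : ℚ) ≤ M := Nat.cast_nonneg _
    have hkT : (k : ℚ) ≤ T * M := by nlinarith
    nlinarith [mul_le_mul_of_nonneg_right hkT hn0]

/-- The averaging over an abelian Sylow subgroup. -/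
theorem nilpHall_insert [hq : Fact q.Prime] (hσ : ∀ r ∈ σ, r.Prime) (hpσ : ∀ r ∈ σ, p ≤ r)
    (hσq : ∀ r ∈ σ, r < q) (hp : 2 ≤ p) (hpq : p < q) {T : ℚ} (hT : 1 ≤ p * T)
    (IH : Forces.{u} σ T)
    (hk : T * piPart (insert q σ) (Nat.card G) < (Nat.card (PiClasses (insert q σ) G) : ℚ)) :
    NilpHall (insert q σ) G := by
  classical
  by_contra hno
  have hqσ : q ∉ σ := fun h => lt_irrefl q (hσq q h)
  have hins : ∀ r ∈ insert q σ, r.Prime := fun r hr => by
    rcases Finset.mem_insert.mp hr with rfl | h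
    · exact hq.out
    · exact hσ r h
  obtain ⟨Q⟩ := (inferInstance : Nonempty (Sylow q G))
  have hp0 : (0 : ℚ) < p := by exact_mod_cast (show 0 < p by omega)
  have hT0 : 0 < T := by nlinarith
  -- `Q` is abelian
  have hQ : IsMulCommutative Q := by
    by_contra hna
    have h1 := class_bound_of_nonabelian Q.isPGroup' hna
    have h2 := card_pClasses_le_card_conjClasses Q
    have h3 := card_piClasses_le_mul (G := G) hins (Finset.mem_insert_self q σ)
    rw [← Q.card_eq_multiplicity] at h3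
    set M := piPart (insert q σ) (Nat.card G)
    set k := Nat.card (PiClasses (insert q σ) G)
    have hQpos : 0 < Nat.card Q := Nat.card_pos
    have h4 : q ^ 3 * k + M ≤ (q ^ 2 + q) * M := by
      refine Nat.le_of_mul_le_mul_right ?_ hQpos
      nlinarith [Nat.mul_le_mul_left (q ^ 3) (h3.trans (Nat.mul_le_mul_right M h2)),
        Nat.mul_le_mul_right M h1]
    have h5 : p * k ≤ M := by
      obtain ⟨s, rfl⟩ : ∃ s, q = p + 1 + s := ⟨q - (p + 1), by omega⟩
      refine Nat.le_of_mul_le_mul_left ?_ (show 0 < (p + 1 + s) ^ 3 by positivity)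
      nlinarith [Nat.mul_le_mul_left p h4, Nat.zero_le (M * p), Nat.zero_le (M * p * s),
        Nat.zero_le (M * s), Nat.zero_le (M * s * s), Nat.zero_le (M * s * s * s),
        Nat.zero_le (M * p * p), Nat.zero_le (M * p * p * s), Nat.zero_le (M * p * s * s),
        Nat.zero_le (M * p * p * p)]
    have h6 : (p : ℚ) * k ≤ M := by exact_mod_cast h5
    have hM0 : (0 : ℚ) ≤ M := Nat.cast_nonneg _
    nlinarith
  set N := normalizer ((Q : Subgroup G) : Set G) with hNdef
  set C := centralizer ((Q : Subgroup G) : Set G) with hCdef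
  haveI : Fintype (Q : Subgroup G) := Fintype.ofFinite _
  haveI : Fintype N := Fintype.ofFinite _
  haveI : Fintype (PClasses q G) := Fintype.ofFinite _
  let φ := toPClass (G := G) Q.isPGroup'
  let kc : ↥(Q : Subgroup G) → ℕ := fun x => Nat.card (PiClasses σ (centralizer ({(x : G)} : Set G)))
  let nn : ↥(Q : Subgroup G) → ℕ := fun x =>
    Nat.card (N ⊓ centralizer ({(x : G)} : Set G) : Subgroup G)
  have hrep : ∀ e : PClasses q G, ∃ x : (Q : Subgroup G), φ x = e ∧ ∀ y, φ y = e → kc x ≤ kc y := by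
    intro e
    obtain ⟨x, hx⟩ := toPClass_surjective Q e
    obtain ⟨y, hy, hy'⟩ := Set.exists_min_image {y | φ y = e} kc (Set.toFinite _) ⟨x, hx⟩
    exact ⟨y, hy, hy'⟩
  choose rep hrep1 hrep2 using hrep
  have hnn : ∀ x : (Q : Subgroup G), nn x =
      (Finset.univ.filter fun g : N => Commute (g : G) (x : G)).card := by
    intro x
    rw [← Fintype.card_subtype, ← Nat.card_eq_fintype_card]
    refine Nat.card_congr ⟨fun g => ⟨⟨g.1, g.2.1⟩, (mem_centralizer_iff.mp g.2.2 x rfl).symm⟩,
      fun g => ⟨g.1.1, g.1.2, mem_centralizer_iff.mpr fun w hw => ?_⟩, fun g => rfl, fun g => rfl⟩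
    rw [Set.mem_singleton_iff.mp hw]
    exact g.2.eq.symm
  -- each fibre has total stabiliser weight `|N|`
  have hfib : ∀ e, ∑ x ∈ Finset.univ.filter (fun x => φ x = e), nn x = Nat.card N := by
    intro e
    let conjQ : N → ↥(Q : Subgroup G) := fun g =>
      ⟨(g : G) * (rep e : G) * (g : G)⁻¹, (Subgroup.mem_normalizer_iff.mp g.2 _).mp (rep e).2⟩
    rw [Nat.card_eq_fintype_card, ← Finset.card_univ,
      Finset.card_eq_sum_card_fiberwise (f := conjQ) (t := Finset.univ.filter (fun x => φ x = e))]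
    · refine Finset.sum_congr rfl fun x hx => ?_
      have hx' : IsConj ((rep e : G)) (x : G) := ConjClasses.mk_eq_mk_iff_isConj.mp
        (congrArg Subtype.val ((hrep1 e).trans (Finset.mem_filter.mp hx).2.symm))
      obtain ⟨g, hg⟩ := isConj_iff.mp hx'
      obtain ⟨g₀, hg₀, hg₀x⟩ := exists_normalizer_conj Q hQ (rep e).2 (hg ▸ x.2)
      rw [hg] at hg₀x
      rw [hnn]
      refine Finset.card_bij' (fun h _ => h * ⟨g₀, hg₀⟩) (fun h _ => h * ⟨g₀, hg₀⟩⁻¹)
        ?_ ?_ (fun h _ => by group) (fun h _ => by group)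
      · intro h hh
        have hc : Commute (h : G) (x : G) := (Finset.mem_filter.mp hh).2
        refine Finset.mem_filter.mpr ⟨Finset.mem_univ _, Subtype.ext ?_⟩
        show (h : G) * g₀ * (rep e : G) * ((h : G) * g₀)⁻¹ = x
        calc (h : G) * g₀ * (rep e : G) * ((h : G) * g₀)⁻¹
            = (h : G) * (g₀ * (rep e : G) * g₀⁻¹) * (h : G)⁻¹ := by group
          _ = (x : G) := by rw [hg₀x, hc.eq, mul_inv_cancel_right]
      · intro h hh
        have hh' : (h : G) * (rep e : G) * (h : G)⁻¹ = x :=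
          congrArg Subtype.val (Finset.mem_filter.mp hh).2
        refine Finset.mem_filter.mpr ⟨Finset.mem_univ _, ?_⟩
        show (h : G) * g₀⁻¹ * (x : G) = (x : G) * ((h : G) * g₀⁻¹)
        conv_lhs => rw [← hg₀x]
        rw [← hh']
        group
    · intro g _
      refine Finset.mem_coe.mpr (Finset.mem_filter.mpr ⟨Finset.mem_univ _, ?_⟩)
      rw [← hrep1 e]
      refine Subtype.ext ?_
      simp only [φ, toPClass, conjQ, ConjClasses.mk_eq_mk_iff_isConj]
      exact (isConj_iff.mpr ⟨(g : G), rfl⟩).symm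
  have hk1 : Nat.card N * Nat.card (PiClasses (insert q σ) G) ≤ ∑ x, nn x * kc x := by
    calc Nat.card N * Nat.card (PiClasses (insert q σ) G) ≤ Nat.card N * ∑ e, kc (rep e) :=
          Nat.mul_le_mul_left _ (card_piClasses_insert_le_sum σ (fun e => (rep e : G))
            fun e => congrArg Subtype.val (hrep1 e))
      _ = ∑ e, ∑ x ∈ Finset.univ.filter (fun x => φ x = e), nn x * kc (rep e) := by
          rw [Finset.mul_sum]
          exact Finset.sum_congr rfl fun e _ => by rw [← hfib e, Finset.sum_mul]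
      _ ≤ ∑ e, ∑ x ∈ Finset.univ.filter (fun x => φ x = e), nn x * kc x :=
          Finset.sum_le_sum fun e _ => Finset.sum_le_sum fun x hx =>
            Nat.mul_le_mul_left _ (hrep2 e x (Finset.mem_filter.mp hx).2)
      _ = _ := Finset.sum_fiberwise _ _ _
  -- fixed points
  have hfix : q * ∑ x, nn x + Nat.card C * Nat.card Q ≤
      q * (Nat.card C * Nat.card Q) + Nat.card N * Nat.card Q := by
    simp only [hnn, Finset.card_filter]
    rw [Finset.sum_comm, Finset.mul_sum]
    have hCcard : Nat.card C = (Finset.univ.filter fun g : N => (g : G) ∈ C).card := by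
      rw [← Fintype.card_subtype, ← Nat.card_eq_fintype_card]
      exact Nat.card_congr ⟨fun g => ⟨⟨g.1, centralizer_le_normalizer _ g.2⟩, g.2⟩,
        fun g => ⟨g.1.1, g.2⟩, fun g => rfl, fun g => rfl⟩
    rw [hCcard, Finset.card_filter, Finset.sum_mul, Nat.card_eq_fintype_card (α := N),
      ← Finset.card_univ, Finset.card_eq_sum_ones (Finset.univ : Finset N), Finset.sum_mul,
      Finset.mul_sum, ← Finset.sum_add_distrib, ← Finset.sum_add_distrib]
    refine Finset.sum_le_sum fun g _ => ?_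
    rw [← Finset.card_filter]
    by_cases hg : (g : G) ∈ C
    · rw [if_pos hg, one_mul]
      have : (Finset.univ.filter fun x : (Q : Subgroup G) => Commute (g : G) (x : G)).card ≤
          Nat.card Q := by
        rw [Nat.card_eq_fintype_card]
        exact Finset.card_le_univ _
      exact Nat.add_le_add_right (Nat.mul_le_mul_left q this) _
    · rw [if_neg hg, zero_mul, one_mul, mul_zero, add_zero, zero_add]
      have hlt : (Q : Subgroup G) ⊓ centralizer ({(g : G)} : Set G) < (Q : Subgroup G) :=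
        lt_of_le_of_ne inf_le_left fun e => hg (mem_centralizer_iff.mpr fun w hw =>
          (mem_centralizer_iff.mp (inf_eq_left.mp e hw) (g : G) rfl).symm)
      refine le_trans (Nat.mul_le_mul_left q ?_) (mul_card_le_of_lt Q.isPGroup' hlt).1
      refine le_of_eq ?_
      rw [← Fintype.card_subtype, ← Nat.card_eq_fintype_card]
      refine Nat.card_congr ⟨fun x => ⟨x.1.1, x.1.2, mem_centralizer_iff.mpr fun w hw => ?_⟩,
        fun x => ⟨⟨x.1, x.2.1⟩, mem_centralizer_iff.mp x.2.2 (g : G) rfl⟩, fun x => rfl,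
        fun x => rfl⟩
      rw [Set.mem_singleton_iff.mp hw]
      exact x.2.eq
  -- combine
  have hsum : (∑ x, (nn x : ℚ) * kc x) ≤
      ∑ x, (piPart σ (Nat.card G) : ℚ) * (T * nn x + nn x - Nat.card C) :=
    Finset.sum_le_sum fun x _ => by
      rw [mul_comm]
      exact classes_at_point hσ hpσ hσq hp hpq hT IH Q hQ hno x.2
  rw [← Finset.mul_sum, Finset.sum_sub_distrib, Finset.sum_add_distrib, ← Finset.mul_sum,
    Finset.sum_const, Finset.card_univ, nsmul_eq_mul, ← Nat.card_eq_fintype_card] at hsum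
  have hk1q : (Nat.card N : ℚ) * Nat.card (PiClasses (insert q σ) G) ≤
      ∑ x, (nn x : ℚ) * kc x := by exact_mod_cast hk1
  have hfixq : (q : ℚ) * ∑ x, (nn x : ℚ) + (Nat.card C : ℚ) * Nat.card Q ≤
      q * ((Nat.card C : ℚ) * Nat.card Q) + (Nat.card N : ℚ) * Nat.card Q := by exact_mod_cast hfix
  rw [piPart_insert hqσ, ← Q.card_eq_multiplicity, Nat.cast_mul] at hk
  set S := ∑ x, (nn x : ℚ)
  set M := (piPart σ (Nat.card G) : ℚ)
  set c := (Nat.card C : ℚ)
  set n := (Nat.card N : ℚ)
  set a := (Nat.card Q : ℚ)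
  set k := (Nat.card (PiClasses (insert q σ) G) : ℚ)
  have hn0 : 0 < n := by
    simp only [n]
    exact_mod_cast (Nat.card_pos : 0 < Nat.card N)
  have hcn : c ≤ n := by
    simp only [c, n]
    exact_mod_cast card_le_of_le (centralizer_le_normalizer _)
  have hM : 0 ≤ M := Nat.cast_nonneg _
  have hq0 : (p : ℚ) + 1 ≤ q := by exact_mod_cast hpq
  have hTq : T + 1 ≤ T * q := by nlinarith
  have ha : 0 ≤ a := Nat.cast_nonneg _
  have h1 : n * k < n * k := by
    refine lt_of_le_of_lt (hk1q.trans hsum) ?_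
    have h2 : M * (T * S + S - a * c) ≤ n * (T * (a * M)) := by
      have h3 : (q : ℚ) * (T * S + S - a * c) ≤ q * (n * T * a) := by
        have := mul_le_mul_of_nonneg_left hfixq (by linarith : (0 : ℚ) ≤ T + 1)
        nlinarith [mul_le_mul_of_nonneg_left hTq (mul_nonneg (sub_nonneg.mpr hcn) ha)]
      have h4 : T * S + S - a * c ≤ n * T * a := le_of_mul_le_mul_left h3 (by linarith)
      calc M * (T * S + S - a * c) ≤ M * (n * T * a) := mul_le_mul_of_nonneg_left h4 hM
        _ = _ := by ring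
    exact lt_of_le_of_lt h2 (mul_lt_mul_of_pos_left hk hn0)
  exact lt_irrefl _ h1

/-- Many classes of `σ`-elements force a nilpotent Hall `σ`-subgroup. -/
theorem forces_of_le {T : ℚ} (hp : 2 ≤ p) (hT : 1 ≤ p * T) :
    ∀ σ : Finset ℕ, (∀ r ∈ σ, r.Prime) → (∀ r ∈ σ, p ≤ r) → Forces.{u} σ T := by
  intro σ
  induction σ using Finset.strongInduction with
  | H σ ih =>
  intro hσ hpσ L _ _ hk
  rcases σ.eq_empty_or_nonempty with rfl | hne
  · exact ⟨⊥, inferInstance, by simp [piPart]⟩
  set q := σ.max' hne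
  have hq : q ∈ σ := Finset.max'_mem σ hne
  haveI := Fact.mk (hσ q hq)
  have hins : insert q (σ.erase q) = σ := Finset.insert_erase hq
  rcases (σ.erase q).eq_empty_or_nonempty with he | ⟨r, hr⟩
  · obtain ⟨Q⟩ := (inferInstance : Nonempty (Sylow q L))
    refine ⟨Q, Q.isPGroup'.isNilpotent, ?_⟩
    rw [← hins, piPart_insert (Finset.notMem_erase q σ), he, Q.card_eq_multiplicity]
    simp [piPart]
  · have hlt : ∀ s ∈ σ.erase q, s < q := fun s hs =>
      lt_of_le_of_ne (Finset.le_max' σ s (Finset.mem_of_mem_erase hs)) (Finset.ne_of_mem_erase hs)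
    have hpq : p < q := (hpσ r (Finset.mem_of_mem_erase hr)).trans_lt (hlt r hr)
    rw [← hins] at hk ⊢
    exact nilpHall_insert (fun s hs => hσ s (Finset.mem_of_mem_erase hs))
      (fun s hs => hpσ s (Finset.mem_of_mem_erase hs)) hlt hp hpq hT
      (ih _ (Finset.erase_ssubset hq) (fun s hs => hσ s (Finset.mem_of_mem_erase hs))
        (fun s hs => hpσ s (Finset.mem_of_mem_erase hs))) hk

/-- In a nilpotent group whose Sylow subgroups are abelian except at `p`, the derived subgroup
is that of the Sylow `p`-subgroup. -/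
theorem card_commutator_le_of_nilpotent [hp : Fact p.Prime] {H : Type u} [Group H] [Finite H]
    (hH : Group.IsNilpotent H)
    (h : ∀ r : ℕ, r.Prime → r ≠ p → ∀ S : Sylow r H, IsMulCommutative S) (P : Sylow p H) :
    Nat.card (commutator H) ≤ Nat.card (commutator P) := by
  have := hH
  have hPn : (P : Subgroup H).Normal :=
    (Group.isNilpotent_of_finite_tfae.out 0 3 rfl rfl).mp hH p inferInstance P
  obtain ⟨T, hT⟩ := Subgroup.exists_right_complement'_of_coprime P.card_coprime_index
  have hTp : ¬ p ∣ Nat.card T := by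
    have := P.not_dvd_index
    rwa [hT.symm.index_eq_card] at this
  have hnil : Group.IsNilpotent T := inferInstance
  have hTcomm : IsMulCommutative T := by
    refine ConjAbelian.isMulCommutative_of_sylow hnil fun r hr S => ?_
    haveI := Fact.mk hr
    by_cases hrp : r = p
    · subst hrp
      obtain ⟨n, hn⟩ := S.isPGroup'.exists_card_eq
      rcases n with _ | n
      · refine IsMulCommutative.of_comm fun a b => ?_
        haveI := (Nat.card_eq_one_iff_unique.mp (hn.trans (pow_zero r))).1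
        exact Subsingleton.elim _ _
      · exact absurd ((dvd_pow_self r n.succ_ne_zero).trans
          (hn ▸ Subgroup.card_subgroup_dvd_card _)) hTp
    · obtain ⟨S', hS'⟩ := (S.isPGroup'.map T.subtype).exists_le_sylow
      have := h r hr hrp S'
      refine IsMulCommutative.of_comm fun a b => ?_
      exact Subtype.ext (Subtype.ext (congrArg Subtype.val (this.is_comm.comm
        ⟨_, hS' (mem_map_of_mem T.subtype a.2)⟩ ⟨_, hS' (mem_map_of_mem T.subtype b.2)⟩) :))
  have hcent : T ≤ centralizer ((P : Subgroup H) : Set H) := by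
    have htop : Group.IsNilpotent (⊤ : Subgroup H) :=
      Group.nilpotent_of_mulEquiv Subgroup.topEquiv.symm
    exact Factor.le_centralizer_of_coprime htop P.isPGroup' le_top le_top hTp
  have hle : commutator H ≤ (commutator (P : Subgroup H)).map (P : Subgroup H).subtype := by
    rw [commutator_def, commutator_le]
    intro x _ y _
    have key : ∀ z : H, ∃ s ∈ (P : Subgroup H), ∃ t ∈ T, s * t = z := fun z => by
      obtain ⟨⟨s, t⟩, hst⟩ := hT.2 z
      exact ⟨s, s.2, t, t.2, hst⟩
    obtain ⟨s, hs, t, ht, rfl⟩ := key x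
    obtain ⟨s', hs', t', ht', rfl⟩ := key y
    have c1 : Commute t s' := (mem_centralizer_iff.mp (hcent ht) s' hs').symm
    have c2 : Commute s t := mem_centralizer_iff.mp (hcent ht) s hs
    have c3 : Commute s t' := mem_centralizer_iff.mp (hcent ht') s hs
    have c4 : Commute s' t' := mem_centralizer_iff.mp (hcent ht') s' hs'
    have c5 : Commute t t' := congrArg Subtype.val (hTcomm.is_comm.comm ⟨t, ht⟩ ⟨t', ht'⟩)
    refine ⟨⁅(⟨s, hs⟩ : (P : Subgroup H)), ⟨s', hs'⟩⁆,
      commutator_mem_commutator (mem_top _) (mem_top _), ?_⟩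
    rw [map_commutatorElement]
    show ⁅s, s'⁆ = ⁅s * t, s' * t'⁆
    have e1 : (s * t) * (s' * t') = (s * s') * (t * t') := Commute.mul_mul_mul_comm c1 s t'
    have e2 : (s' * t') * (s * t) = (s' * s) * (t' * t) := Commute.mul_mul_mul_comm c3.symm s' t
    rw [commutatorElement_def, commutatorElement_def,
      show s * t * (s' * t') * (s * t)⁻¹ * (s' * t')⁻¹ =
        ((s * t) * (s' * t')) * ((s' * t') * (s * t))⁻¹ by group, e1, e2, ← c5.eq]
    group
  refine (card_le_of_le hle).trans ?_
  rw [card_map_of_injective (P : Subgroup H).subtype_injective]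

/-- More than `m T` classes: a nilpotent Hall subgroup, and many classes of `r`-elements. -/
theorem exists_hall_and_classes {T : ℚ} (hp : 2 ≤ p) (hT : 1 ≤ p * T) (π : Set ℕ)
    (hπ : ∀ r ∈ π, r.Prime) (hmin : ∀ r ∈ π, p ≤ r) (m : ℕ) (hm : m ∣ Nat.card G)
    (hmπ : ∀ r : ℕ, r.Prime → r ∣ m → r ∈ π) (hm' : ∀ r ∈ π, ¬ r ∣ Nat.card G / m)
    (k : ℕ) (hk : k = Nat.card {C : ConjClasses G // ∀ r : ℕ, r.Prime →
      (∃ g : G, ConjClasses.mk g = C ∧ r ∣ orderOf g) → r ∈ π})
    (hmany : T * m < (k : ℚ)) :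
    ∃ H : Subgroup G, Group.IsNilpotent H ∧ Nat.card H = m ∧
      ∀ (r : ℕ) [Fact r.Prime], r ∈ π → ∀ S : Sylow r H,
        T * Nat.card S < (Nat.card (ConjClasses S) : ℚ) := by
  classical
  set σ := (Nat.card G).primeFactors.filter (· ∈ π) with hσdef
  have hσ : ∀ r ∈ σ, r.Prime := fun r hr => Nat.prime_of_mem_primeFactors (Finset.mem_filter.mp hr).1
  have hσπ : ∀ r ∈ σ, r ∈ π := fun r hr => (Finset.mem_filter.mp hr).2
  have hmem : ∀ r : ℕ, r.Prime → r ∣ Nat.card G → r ∈ π → r ∈ σ := fun r hr h hrπ =>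
    Finset.mem_filter.mpr ⟨Nat.mem_primeFactors.mpr ⟨hr, h, Nat.card_pos.ne'⟩, hrπ⟩
  have hmeq : m = piPart σ (Nat.card G) := eq_piPart hσ Nat.card_pos.ne' hm
    (fun r hr h => hmem r hr (h.trans hm) (hmπ r hr h)) (fun r hr => hm' r (hσπ r hr))
  have hkeq : k = Nat.card (PiClasses σ G) := by
    rw [hk]
    refine Nat.card_congr (Equiv.subtypeEquivRight fun c => ⟨fun h x hx r hr hrd => ?_, fun h r hr => ?_⟩)
    · exact hmem r hr (hrd.trans (orderOf_dvd_natCard x))
        (h r hr ⟨x, ConjClasses.mem_carrier_iff_mk_eq.mp hx, hrd⟩)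
    · rintro ⟨g, hg, hrd⟩
      exact hσπ r (h g (ConjClasses.mem_carrier_iff_mk_eq.mpr hg) r hr hrd)
  rw [hmeq, hkeq] at hmany
  obtain ⟨H, hH, hHc⟩ := forces_of_le hp hT σ hσ (fun r hr => hmin r (hσπ r hr)) G hmany
  refine ⟨H, hH, hHc.trans hmeq.symm, fun r _ hrπ S => ?_⟩
  have hpos : (0 : ℚ) < Nat.card S := by exact_mod_cast (Nat.card_pos : 0 < Nat.card S)
  have hp0 : (0 : ℚ) < p := by exact_mod_cast (show 0 < p by omega)
  have hT0 : 0 < T := by nlinarith
  by_cases hrσ : r ∈ σ
  · obtain ⟨R, hR⟩ := (S.isPGroup'.map H.subtype).exists_le_sylow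
    have hcard : Nat.card R = Nat.card S := by
      rw [R.card_eq_multiplicity, S.card_eq_multiplicity, hHc, factorization_piPart hσ, if_pos hrσ]
    have hReq : (S : Subgroup H).map H.subtype = (R : Subgroup G) := by
      refine eq_of_le_of_card_ge hR ?_
      rw [hcard, card_map_of_injective H.subtype_injective]
    have e : (S : Subgroup H) ≃* (R : Subgroup G) :=
      ((S : Subgroup H).equivMapOfInjective _ H.subtype_injective).trans
        (MulEquiv.subgroupCongr hReq)
    have hcc : Nat.card (ConjClasses R) ≤ Nat.card (ConjClasses S) :=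
      Nat.card_le_card_of_surjective _ (ConjClasses.map_surjective (f := e.toMonoidHom) e.surjective)
    have h2 : Nat.card (PiClasses σ G) * Nat.card R ≤
        Nat.card (ConjClasses S) * piPart σ (Nat.card G) := by
      rw [R.card_eq_multiplicity]
      exact (card_piClasses_le_mul hσ hrσ).trans
        (Nat.mul_le_mul_right _ ((card_pClasses_le_card_conjClasses R).trans hcc))
    rw [hcard] at h2
    have h3 : (Nat.card (PiClasses σ G) : ℚ) * Nat.card S ≤
        Nat.card (ConjClasses S) * piPart σ (Nat.card G) := by exact_mod_cast h2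
    have hM : (0 : ℚ) < piPart σ (Nat.card G) := by exact_mod_cast piPart_pos hσ _
    by_contra hcon
    rw [not_lt] at hcon
    nlinarith [mul_lt_mul_of_pos_right hmany hpos, mul_le_mul_of_nonneg_right hcon hM.le]
  · have hS1 : Nat.card S = 1 := by
      rw [S.card_eq_multiplicity, hHc, factorization_piPart hσ, if_neg hrσ, pow_zero]
    have hcc : Nat.card (ConjClasses S) = 1 := by
      haveI : Subsingleton S := (Nat.card_eq_one_iff_unique.mp hS1).1
      exact Nat.card_eq_one_iff_unique.mpr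
        ⟨Function.Surjective.subsingleton ConjClasses.mk_surjective, ⟨ConjClasses.mk 1⟩⟩
    rw [hS1, hcc, Nat.cast_one, mul_one]
    have hm0 : (1 : ℚ) ≤ piPart σ (Nat.card G) := by exact_mod_cast piPart_pos hσ _
    have hkle : (Nat.card (PiClasses σ G) : ℚ) ≤ piPart σ (Nat.card G) := by
      exact_mod_cast card_piClasses_le hσ G
    nlinarith

/-- The Sylow subgroups beyond the least prime are abelian. -/
theorem isMulCommutative_of_many {T : ℚ} (hp : 2 ≤ p) (hT : 1 ≤ p * T) {r : ℕ} [Fact r.Prime]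
    (hpr : p < r) {S : Type u} [Group S] [Finite S] (hS : IsPGroup r S)
    (h : T * Nat.card S < (Nat.card (ConjClasses S) : ℚ)) : IsMulCommutative S := by
  by_contra hna
  have h1 : (r : ℚ) ^ 3 * Nat.card (ConjClasses S) + Nat.card S ≤
      ((r : ℚ) ^ 2 + r) * Nat.card S := by exact_mod_cast class_bound_of_nonabelian hS hna
  have hp2 : (2 : ℚ) ≤ p := by exact_mod_cast hp
  have hr : (p : ℚ) + 1 ≤ r := by exact_mod_cast hpr
  have hs : (0 : ℚ) ≤ Nat.card S := Nat.cast_nonneg _
  have hT0 : 0 < T := by nlinarith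
  have h2 : T * r ≥ 1 + T := by nlinarith
  have h3 : (r : ℚ) ^ 2 + r - 1 ≤ T * r ^ 3 := by
    nlinarith [mul_le_mul_of_nonneg_left h2 (mul_nonneg (by linarith : (0:ℚ) ≤ r) (by linarith : (0:ℚ) ≤ r))]
  nlinarith [mul_lt_mul_of_pos_left h (pow_pos (by linarith) 3 : (0 : ℚ) < (r : ℚ) ^ 3),
    mul_le_mul_of_nonneg_right h3 hs]

end CfsgLib.PiClassHall
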